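import Mathlib
import Cfsg.Prelude.Def_Transfer
import Cfsg.Agent.Helper17.Fi23Syl.Fix

/-! Elementary abelian subgroups of a Sylow 2-subgroup of the presented `Fi23`. -/

set_option autoImplicit false
set_option linter.all false
set_option maxRecDepth 100000

noncomputable section

namespace Cfsg.Agent.Helper17.Fi23Syl

open Cfsg.Spor Cfsg.Agent.Helper17.Fi23TC Cfsg.Agent.Helper17.Fi23Ord Cfsg.Agent.Helper17.Fi23Trans

theorem validB_comp {L L' : List ℕ} (hv : Valid L) (hv' : Valid L') :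
    validB (comp L L') = true := by
  simp only [validB, Bool.and_eq_true, List.all_eq_true, Nat.blt_eq]
  refine ⟨by rw [comp_length]; rfl, ?_⟩
  intro j hj
  simp only [comp, List.mem_map, List.mem_range] at hj
  obtain ⟨i, hi, rfl⟩ := hj
  exact hv _ (hv' i hi)

theorem validB_idL : validB idL = true := by decide +kernel

theorem acts_invol {A : Subgroup G} (hA : A ≤ T0) {a : G} (ha : a ∈ A) (h2 : a ^ 2 = 1) :
    ∃ j, j < 36 ∧ Acts a (tP j) := by
  obtain ⟨L, hL, hAct⟩ := T0_acts (hA ha)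
  have hv := (valid_of_validB (Slist_valid hL)).1
  have h1 : Acts (a * a) (comp L L) := Acts_mul hAct hAct hv
  rw [← pow_two, h2] at h1
  have h3 : comp L L = idL := Acts_unique h1 Acts_one (validB_comp hv hv) validB_idL
  obtain ⟨j, hj, rfl⟩ := inv_mem_tab hL h3
  exact ⟨j, hj, hAct⟩

theorem fixed_bit {a : G} {j : ℕ} (hj : j < 36) (hAct : Acts a (tP j)) {y : ℕ} (hy : y < 2048)
    (hc : a * psi y = psi y * a) : (tF j).testBit y = true := by
  have hv := (valid_of_validB (tP_valid hj)).1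
  have h1 := conj_psi hAct hv y
  rw [hc, mul_assoc, mul_inv_cancel, mul_one] at h1
  have hlt : xorfold (mcol (tP j)) 11 y < 2048 := xorfold_lt 11 (mcol_lt hv) y
  have h2 := psi_inj hy hlt h1
  apply fix_testBit hj hy
  rw [← Mapp_eq hj, ← h2]

theorem comm_bit {a a' : G} {j k : ℕ} (hj : j < 36) (hk : k < 36) (hA : Acts a (tP j))
    (hA' : Acts a' (tP k)) (hc : a * a' = a' * a) : (tM j).testBit k = true := by
  have hvj := (valid_of_validB (tP_valid hj)).1
  have hvk := (valid_of_validB (tP_valid hk)).1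
  have h1 := Acts_mul hA hA' hvk
  have h2 := Acts_mul hA' hA hvj
  rw [hc] at h1
  exact comm_testBit hj hk (Acts_unique h1 h2 (validB_comp hvj hvk) (validB_comp hvk hvj))

theorem card_AE_le (A : Subgroup G) (f : ℕ)
    (hf : ∀ y, y < 2048 → psi y ∈ A → f.testBit y = true) :
    Nat.card ↥(A ⊓ E) ≤ cnt 2048 f := by
  classical
  have hex : ∀ e : ↥(A ⊓ E), ∃ y, y < 2048 ∧ e.1 = psi y := by
    intro e
    obtain ⟨y, hy, h⟩ := E_eq_psi (Subgroup.mem_inf.mp e.2).2
    exact ⟨y, by simpa using hy, h⟩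
  choose yf hy hpsi using hex
  let F : ↥(A ⊓ E) → ((Finset.range 2048).filter (fun y => f.testBit y = true)) := fun e =>
    ⟨yf e, Finset.mem_filter.mpr ⟨Finset.mem_range.mpr (hy e), hf _ (hy e) (by
      rw [← hpsi e]; exact (Subgroup.mem_inf.mp e.2).1)⟩⟩
  have hF : Function.Injective F := by
    intro e e' h
    simp only [F, Subtype.mk.injEq] at h
    apply Subtype.ext
    rw [hpsi e, hpsi e', h]
  have := Nat.card_le_card_of_injective F hF
  rwa [Nat.card_eq_finsetCard, card_filter_testBit] at this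

theorem main_T0 (A : Subgroup G) (hA : A ≤ T0) (hE : Cfsg.IsElementaryAbelian 2 A) :
    Nat.card A ≤ 2 ^ 11 ∧ (Nat.card A = 2 ^ 11 → A = E) := by
  classical
  haveI := finG
  obtain ⟨hcomm, hexp⟩ := hE
  have comm : ∀ a ∈ A, ∀ b ∈ A, a * b = b * a := by
    intro a ha b hb
    have := hcomm.is_comm.comm (⟨a, ha⟩ : A) ⟨b, hb⟩
    exact congrArg Subtype.val this
  have hidx : ∀ a ∈ A, ∃ j, j < 36 ∧ Acts a (tP j) := fun a ha => acts_invol hA ha (hexp a ha)
  set J : Finset ℕ := (Finset.range 36).filter (fun j => ∃ a ∈ A, Acts a (tP j)) with hJ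
  have memJ : ∀ {j : ℕ}, j ∈ J ↔ j < 36 ∧ ∃ a ∈ A, Acts a (tP j) := by
    intro j; rw [hJ, Finset.mem_filter, Finset.mem_range]
  have hcard : Nat.card A ≤ J.card * Nat.card ↥(A ⊓ E) := by
    have := card_le_of_acts A (J.image tP) (by
      intro a ha
      obtain ⟨j, hj, h⟩ := hidx a ha
      exact ⟨tP j, Finset.mem_image.mpr ⟨j, memJ.mpr ⟨hj, a, ha, h⟩, rfl⟩, h⟩)
    exact this.trans (Nat.mul_le_mul_right _ Finset.card_image_le)
  by_cases h0 : ∀ j ∈ J, j = 0
  · have hAE : A ≤ E := by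
      intro a ha
      obtain ⟨j, hj, h⟩ := hidx a ha
      have hj0 : j = 0 := h0 j (memJ.mpr ⟨hj, a, ha, h⟩)
      subst hj0
      rw [tP_zero] at h
      exact mem_E_of_Acts h
    have hle : Nat.card A ≤ 2048 := card_E ▸ Subgroup.card_le_of_le hAE
    refine ⟨by norm_num; exact hle, fun hc => ?_⟩
    apply Subgroup.eq_of_le_of_card_ge hAE
    rw [card_E, hc]; norm_num
  · push Not at h0
    obtain ⟨j, hjJ, hj0⟩ := h0
    obtain ⟨hj36, aj, haj, hAj⟩ := memJ.mp hjJ
    have key : Nat.card A < 2048 := by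
      by_cases h1 : ∀ k ∈ J, k = 0 ∨ k = j
      · have hJ2 : J.card ≤ 2 := by
          have hsub : J ⊆ {0, j} := by
            intro k hk
            rcases h1 k hk with rfl | rfl <;> simp
          exact (Finset.card_le_card hsub).trans Finset.card_le_two
        have hAEc : Nat.card ↥(A ⊓ E) ≤ cnt 2048 (tF j) :=
          card_AE_le A (tF j) (fun y hy hyA => fixed_bit hj36 hAj hy (comm _ haj _ hyA))
        have hs := single_lt hj36 hj0
        calc Nat.card A ≤ J.card * Nat.card ↥(A ⊓ E) := hcard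
          _ ≤ 2 * cnt 2048 (tF j) := Nat.mul_le_mul hJ2 hAEc
          _ < 2048 := by omega
      · push Not at h1
        obtain ⟨k, hkJ, hk0, hkj⟩ := h1
        obtain ⟨hk36, ak, hak, hAk⟩ := memJ.mp hkJ
        have hb : (tM j).testBit k = true := comm_bit hj36 hk36 hAj hAk (comm _ haj _ hak)
        have hJc : J.card ≤ cnt 36 (tM j &&& tM k) := by
          rw [← card_filter_testBit]
          apply Finset.card_le_card
          intro m hm
          obtain ⟨hm36, am, ham, hAm⟩ := memJ.mp hm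
          rw [Finset.mem_filter, Finset.mem_range]
          refine ⟨hm36, ?_⟩
          rw [Nat.testBit_and, comm_bit hj36 hm36 hAj hAm (comm _ haj _ ham),
            comm_bit hk36 hm36 hAk hAm (comm _ hak _ ham)]
          rfl
        have hAEc : Nat.card ↥(A ⊓ E) ≤ cnt 2048 (tF j &&& tF k) :=
          card_AE_le A _ (fun y hy hyA => by
            rw [Nat.testBit_and, fixed_bit hj36 hAj hy (comm _ haj _ hyA),
              fixed_bit hk36 hAk hy (comm _ hak _ hyA)]
            rfl)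
        have hp := pair_lt hj36 hk36 hj0 hk0 (Ne.symm hkj) hb
        calc Nat.card A ≤ J.card * Nat.card ↥(A ⊓ E) := hcard
          _ ≤ cnt 36 (tM j &&& tM k) * cnt 2048 (tF j &&& tF k) := Nat.mul_le_mul hJc hAEc
          _ < 2048 := by rw [mul_comm]; exact hp
    refine ⟨by norm_num; omega, fun hc => ?_⟩
    norm_num at hc
    omega

theorem E_normal_T0 : (E.subgroupOf T0).Normal := by
  constructor
  intro n hn g
  rw [Subgroup.mem_subgroupOf] at hn ⊢
  simp only [Subgroup.coe_mul, Subgroup.coe_inv]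
  obtain ⟨L, hL, hAct⟩ := T0_acts g.2
  obtain ⟨y, _, hy⟩ := E_eq_psi hn
  rw [hy, conj_psi hAct (valid_of_validB (Slist_valid hL)).1]
  exact psi_mem _

theorem E_elemab : Cfsg.IsElementaryAbelian 2 E :=
  ⟨⟨⟨fun a b => Subtype.ext (E_comm a.2 b.2)⟩⟩, fun a ha => by rw [pow_two]; exact E_sq ha⟩

/-! ### transport to every Sylow 2-subgroup -/

def Good (T : Subgroup G) : Prop :=
  (∀ A : Subgroup G, A ≤ T → Cfsg.IsElementaryAbelian 2 A → Nat.card A ≤ 2 ^ 11) ∧
  ∃ E0 : Subgroup G, E0 ≤ T ∧ (E0.subgroupOf T).Normal ∧ Cfsg.IsElementaryAbelian 2 E0 ∧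
    Nat.card E0 = 2 ^ 11 ∧
    ∀ A : Subgroup G, A ≤ T → Cfsg.IsElementaryAbelian 2 A → Nat.card A = 2 ^ 11 → A = E0

theorem good_T0 : Good T0 :=
  ⟨fun A hA hE => (main_T0 A hA hE).1,
    E, E_le_T0, E_normal_T0, E_elemab, by rw [card_E]; norm_num,
    fun A hA hE hc => (main_T0 A hA hE).2 hc⟩

theorem elemab_map (f : G →* G) {A : Subgroup G} (h : Cfsg.IsElementaryAbelian 2 A) :
    Cfsg.IsElementaryAbelian 2 (A.map f) := by
  obtain ⟨hc, he⟩ := h
  refine ⟨⟨⟨fun x y => ?_⟩⟩, ?_⟩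
  · obtain ⟨a, ha, hx⟩ := x.2
    obtain ⟨b, hb, hy⟩ := y.2
    apply Subtype.ext
    have := congrArg Subtype.val (hc.is_comm.comm (⟨a, ha⟩ : A) ⟨b, hb⟩)
    simp only [Subgroup.coe_mul] at this ⊢
    rw [← hx, ← hy, ← map_mul, ← map_mul, this]
  · rintro _ ⟨a, ha, rfl⟩
    rw [← map_pow, he a ha, map_one]

theorem good_map (α : G ≃* G) {T : Subgroup G} (h : Good T) : Good (T.map α.toMonoidHom) := by
  obtain ⟨h1, E0, hE0, hN, hEA, hcE, huniq⟩ := h
  have back : ∀ A : Subgroup G, A ≤ T.map α.toMonoidHom → A.map α.symm.toMonoidHom ≤ T := by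
    intro A hA x hx
    obtain ⟨a, ha, rfl⟩ := hx
    obtain ⟨t, ht, rfl⟩ := hA ha
    simpa using ht
  have cardb : ∀ A : Subgroup G, Nat.card (A.map α.symm.toMonoidHom) = Nat.card A := fun A =>
    Subgroup.card_map_of_injective α.symm.injective
  have fwd : ∀ A : Subgroup G, (A.map α.symm.toMonoidHom).map α.toMonoidHom = A := by
    intro A
    rw [Subgroup.map_map]
    have : α.toMonoidHom.comp α.symm.toMonoidHom = MonoidHom.id G := by
      ext x; simp
    rw [this, Subgroup.map_id]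
  refine ⟨fun A hA hE => ?_, E0.map α.toMonoidHom, Subgroup.map_mono hE0, ?_, elemab_map _ hEA, ?_,
    fun A hA hE hc => ?_⟩
  · rw [← cardb A]
    exact h1 _ (back A hA) (elemab_map _ hE)
  · constructor
    intro n hn g
    rw [Subgroup.mem_subgroupOf] at hn ⊢
    simp only [Subgroup.coe_mul, Subgroup.coe_inv]
    obtain ⟨e, he, hne⟩ := hn
    obtain ⟨t, ht, htg⟩ := g.2
    have hmem := hN.conj_mem ⟨e, hE0 he⟩ (Subgroup.mem_subgroupOf.mpr he) ⟨t, ht⟩
    rw [Subgroup.mem_subgroupOf] at hmem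
    simp only [Subgroup.coe_mul, Subgroup.coe_inv] at hmem
    refine ⟨t * e * t⁻¹, hmem, ?_⟩
    rw [map_mul, map_mul, map_inv, hne, htg]
  · rw [Subgroup.card_map_of_injective α.injective, hcE]
  · have := huniq _ (back A hA) (elemab_map _ hE) (by rw [cardb A, hc])
    rw [← fwd A, this]

theorem fact2' : Nat.card T0 = 2 ^ (Nat.card G).factorization 2 := by
  rw [fact2, card_T0]

theorem good_sylow (T : Sylow 2 G) : Good (T : Subgroup G) := by
  haveI := finG
  haveI : Fact (Nat.Prime 2) := ⟨Nat.prime_two⟩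
  set T0s : Sylow 2 G := Sylow.ofCard T0 fact2' with hT0s
  obtain ⟨g, hg⟩ := MulAction.exists_smul_eq G T0s T
  have h1 : (T : Subgroup G) = T0.map (MulAut.conj g).toMonoidHom := by
    rw [← hg, Sylow.coe_subgroup_smul, Subgroup.pointwise_smul_def]
    rfl
  rw [h1]
  exact good_map _ good_T0

theorem final (T : Sylow 2 G) :
    (∀ A : Subgroup G, A ≤ T → (A.subgroupOf T).Normal → Cfsg.IsElementaryAbelian 2 A →
        Nat.card A ≤ 2 ^ 11) ∧
    ∃! A : Subgroup G, A ≤ T ∧ (A.subgroupOf T).Normal ∧ Cfsg.IsElementaryAbelian 2 A ∧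
        Nat.card A = 2 ^ 11 := by
  obtain ⟨h1, E0, hE0, hN, hEA, hcE, huniq⟩ := good_sylow T
  refine ⟨fun A hA _ hE => h1 A hA hE, E0, ⟨hE0, hN, hEA, hcE⟩, ?_⟩
  rintro A ⟨hA, _, hE, hc⟩
  exact huniq A hA hE hc

end Cfsg.Agent.Helper17.Fi23Syl
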