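import Mathlib
import Cfsg.Agent.Helper17.Fi23Ord.Trans

/-! Sylow 2-subgroup of the presented `Fi23`: the 23 pairwise commuting transpositions of a base,
the elementary abelian group `E` they generate. -/

set_option autoImplicit false
set_option linter.all false
set_option maxRecDepth 100000

noncomputable section

namespace Cfsg.Agent.Helper17.Fi23Syl

open Cfsg.Spor Cfsg.Agent.Helper17.Fi23TC Cfsg.Agent.Helper17.Fi23Ord Cfsg.Agent.Helper17.Fi23Trans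

/-- the 23 points of a base (maximal set of commuting transpositions). -/
def Bl : List ℕ := [0, 2995, 4083, 4146, 4522, 5481, 5716, 7970, 9403, 9832, 10631, 10657, 12075, 13089, 13863, 13877, 14225, 14226, 15319, 16502, 18498, 20420, 21351]

def bP (i : ℕ) : ℕ := Bl.getD i 0

/-- coset representative words: `uW i` maps the point `0` to `bP i`. -/
def uWl : List (List ℕ) :=
  [[],
   [7, 6, 5, 4, 3, 2, 1, 0, 8, 3, 2, 4, 3, 5, 6, 7, 9, 8, 3, 2, 1, 4, 3, 5],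
   [7, 6, 5, 4, 3, 2, 1, 0, 8, 3, 2, 4, 5, 6, 7, 9, 8, 3, 2, 4, 3, 5, 6, 8, 9],
   [7, 6, 5, 4, 3, 2, 1, 8, 3, 2, 4, 3, 5, 4, 6, 5, 7, 8, 9, 8, 3, 2, 4, 3, 5],
   [7, 6, 5, 4, 3, 2, 1, 0, 8, 3, 2, 1, 4, 3, 5, 4, 6, 5, 7, 6, 9, 8, 3, 2, 1, 0],
   [7, 6, 5, 4, 3, 2, 1, 0, 8, 3, 2, 1, 4, 3, 2, 5, 6, 7, 9, 8, 3, 2, 1, 0, 4, 3, 5],
   [7, 6, 5, 4, 3, 2, 1, 0, 8, 3, 2, 1, 4, 3, 5, 4, 6, 5, 7, 9, 8, 3, 2, 1, 4, 3, 2],
   [7, 6, 5, 4, 3, 2, 1, 0, 8, 3, 2, 4, 5, 6, 7, 9, 8, 3, 2, 1, 4, 3, 2, 5, 6, 8, 3, 4],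
   [7, 6, 5, 4, 3, 2, 1, 0, 8, 3, 2, 1, 4, 5, 6, 7, 9, 8, 3, 2, 1, 4, 3, 2, 5, 4, 6, 8, 9],
   [7, 6, 5, 4, 3, 2, 1, 0, 8, 3, 2, 1, 4, 3, 2, 5, 4, 6, 7, 9, 8, 3, 2, 1, 4, 3, 2, 5, 4, 6],
   [7, 6, 5, 4, 3, 2, 1, 0, 8, 3, 2, 1, 4, 3, 5, 4, 6, 7, 8, 9, 8, 3, 2, 1, 4, 3, 2, 5, 6, 8],
   [7, 6, 5, 4, 3, 2, 1, 0, 8, 3, 2, 1, 4, 3, 5, 4, 6, 7, 9, 8, 3, 2, 1, 4, 3, 2, 8, 3, 4, 5],
   [7, 6, 5, 4, 3, 2, 1, 0, 8, 3, 2, 1, 4, 3, 2, 5, 6, 7, 8, 9, 8, 3, 2, 1, 0, 4, 3, 5, 6, 8, 9],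
   [7, 6, 5, 4, 3, 2, 1, 0, 8, 3, 2, 1, 4, 3, 5, 6, 7, 9, 8, 3, 2, 1, 4, 3, 2, 5, 4, 6, 5, 8, 3],
   [7, 6, 5, 4, 3, 2, 1, 0, 8, 3, 2, 1, 4, 3, 2, 5, 4, 6, 7, 8, 9, 8, 3, 2, 1, 4, 3, 2, 5, 6, 8, 9],
   [7, 6, 5, 4, 3, 2, 1, 0, 8, 3, 2, 1, 4, 3, 2, 5, 4, 6, 7, 9, 8, 3, 2, 1, 0, 4, 3, 2, 8, 3, 4, 5],
   [7, 6, 5, 4, 3, 2, 1, 0, 8, 3, 2, 1, 4, 3, 2, 5, 6, 7, 8, 9, 8, 3, 2, 1, 0, 4, 3, 2, 1, 5, 6, 8],
   [7, 6, 5, 4, 3, 2, 1, 0, 8, 3, 2, 1, 4, 3, 2, 5, 6, 7, 8, 9, 8, 3, 2, 1, 0, 4, 3, 2, 1, 5, 8, 9],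
   [7, 6, 5, 4, 3, 2, 1, 0, 8, 3, 2, 1, 4, 3, 5, 6, 7, 8, 9, 8, 3, 2, 1, 4, 3, 2, 5, 4, 8, 3, 4, 9],
   [7, 6, 5, 4, 3, 2, 1, 0, 8, 3, 2, 1, 4, 3, 2, 5, 6, 7, 9, 8, 3, 2, 1, 4, 3, 2, 5, 4, 3, 8, 3, 2, 4],
   [7, 6, 5, 4, 3, 2, 1, 0, 8, 3, 2, 1, 4, 3, 2, 5, 6, 7, 8, 9, 8, 3, 2, 1, 0, 4, 3, 2, 1, 5, 4, 6, 8, 9],
   [7, 6, 5, 4, 3, 2, 1, 0, 8, 3, 2, 1, 4, 3, 2, 5, 6, 7, 9, 8, 3, 2, 1, 0, 4, 3, 2, 5, 4, 8, 3, 2, 4, 9, 8],
   [7, 6, 5, 4, 3, 2, 1, 0, 8, 3, 2, 1, 4, 3, 5, 6, 7, 8, 9, 8, 3, 2, 1, 4, 3, 2, 5, 4, 3, 8, 3, 2, 9, 8, 3]]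

def uW (i : ℕ) : List ℕ := uWl.getD i []

def dW (i : ℕ) : List ℕ := (uW i).reverse ++ wz ++ uW i

def dG (i : ℕ) : G := prodw (dW i)

def chkU : Bool :=
  (List.range 23).all fun i =>
    ((uW i).all fun l => decide (l < nl)) && Nat.beq (evalw (uW i) 0) (bP i)

theorem chkU_ok : chkU = true := by decide +kernel

theorem uW_lt {i : ℕ} (hi : i < 23) : ∀ l ∈ uW i, l < nl := by
  have h := chkU_ok
  simp only [chkU, List.all_eq_true, Bool.and_eq_true, decide_eq_true_eq, List.mem_range] at h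
  exact (h i hi).1

theorem uW_ev {i : ℕ} (hi : i < 23) : evalw (uW i) 0 = bP i := by
  have h := chkU_ok
  simp only [chkU, List.all_eq_true, Bool.and_eq_true, decide_eq_true_eq, List.mem_range] at h
  exact Nat.eq_of_beq_eq_true (h i hi).2

theorem dW_lt {i : ℕ} (hi : i < 23) : ∀ l ∈ dW i, l < nl := by
  intro l hl
  simp only [dW, List.mem_append, List.mem_reverse] at hl
  rcases hl with (hl | hl) | hl
  · exact uW_lt hi l hl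
  · exact wz_lt l hl
  · exact uW_lt hi l hl

theorem dG_eq (i : ℕ) : dG i = prodw (uW i) * zG * (prodw (uW i))⁻¹ := by
  rw [dG, dW, prodw_append, prodw_append, prodw_reverse, zG, mul_assoc]

theorem phi_uW {i : ℕ} (hi : i < 23) : phi (prodw (uW i)) 0 = bP i := by
  rw [phi_prodw_apply _ (uW_lt hi), uW_ev hi]

theorem conj_dG {g : G} {i j : ℕ} (hi : i < 23) (hj : j < 23) (h : phi g (bP i) = bP j) :
    g * dG i * g⁻¹ = dG j := by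
  set x := prodw (uW i) with hx
  set y := prodw (uW j) with hy
  have hc : y⁻¹ * g * x ∈ Hs := by
    rw [← stab0, map_mul, map_mul, map_inv, Equiv.Perm.mul_apply, Equiv.Perm.mul_apply,
      hx, phi_uW hi, h, Equiv.Perm.inv_eq_iff_eq, hy, phi_uW hj]
  rw [← cent_eq, Subgroup.mem_centralizer_iff] at hc
  have hz := hc zG (Set.mem_singleton _)
  rw [dG_eq, dG_eq, ← hx, ← hy]
  have e1 : g * (x * zG * x⁻¹) * g⁻¹ = y * ((y⁻¹ * g * x) * zG * (y⁻¹ * g * x)⁻¹) * y⁻¹ := by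
    group
  rw [e1, ← hz]
  group

theorem dG_sq (i : ℕ) : dG i * dG i = 1 := by
  rw [dG_eq]
  have : prodw (uW i) * zG * (prodw (uW i))⁻¹ * (prodw (uW i) * zG * (prodw (uW i))⁻¹)
      = prodw (uW i) * (zG * zG) * (prodw (uW i))⁻¹ := by group
  rw [this, zG_sq]; group

theorem dG_inv (i : ℕ) : (dG i)⁻¹ = dG i := by
  rw [inv_eq_iff_mul_eq_one]; exact dG_sq i

def chkFix : Bool :=
  (List.range 23).all fun i => (List.range 23).all fun j => Nat.beq (evalw (dW i) (bP j)) (bP j)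

theorem chkFix_ok : chkFix = true := by decide +kernel

theorem dG_fix {i j : ℕ} (hi : i < 23) (hj : j < 23) : phi (dG i) (bP j) = bP j := by
  have h := chkFix_ok
  simp only [chkFix, List.all_eq_true, List.mem_range] at h
  rw [dG, phi_prodw_apply _ (dW_lt hi)]
  exact Nat.eq_of_beq_eq_true (h i hi j hj)

theorem dG_comm {i j : ℕ} (hi : i < 23) (hj : j < 23) : dG i * dG j = dG j * dG i := by
  have h := conj_dG (g := dG i) hj hj (dG_fix hi hj)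
  rw [mul_inv_eq_iff_eq_mul] at h
  exact h

/-- the elementary abelian group generated by the 23 commuting transpositions. -/
def E : Subgroup G := Subgroup.closure {g | ∃ i, i < 23 ∧ g = dG i}

theorem dG_mem {i : ℕ} (hi : i < 23) : dG i ∈ E := Subgroup.subset_closure ⟨i, hi, rfl⟩

theorem mem_Bl {b : ℕ} (hb : b ∈ Bl) : ∃ j, j < 23 ∧ b = bP j := by
  obtain ⟨j, hj, rfl⟩ := List.getElem_of_mem hb
  refine ⟨j, hj, ?_⟩
  rw [bP, List.getD_eq_getElem _ _ hj]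

theorem E_le_Kof : E ≤ Kof Bl := by
  rw [E, Subgroup.closure_le]
  rintro g ⟨i, hi, rfl⟩
  rw [SetLike.mem_coe, mem_Kof]
  intro b hb
  obtain ⟨j, hj, rfl⟩ := mem_Bl hb
  exact dG_fix hi hj

theorem E_comm_gen {a : G} (ha : a ∈ E) {i : ℕ} (hi : i < 23) : a * dG i = dG i * a := by
  induction ha using Subgroup.closure_induction with
  | mem x hx =>
    obtain ⟨j, hj, rfl⟩ := hx
    exact dG_comm hj hi
  | one => simp
  | mul x y _ _ hx hy => rw [mul_assoc, hy, ← mul_assoc, hx, mul_assoc]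
  | inv x _ hx =>
    rw [inv_mul_eq_iff_eq_mul, ← mul_assoc, hx, mul_assoc, mul_inv_cancel, mul_one]

theorem E_comm {a b : G} (ha : a ∈ E) (hb : b ∈ E) : a * b = b * a := by
  induction hb using Subgroup.closure_induction with
  | mem x hx =>
    obtain ⟨j, hj, rfl⟩ := hx
    exact E_comm_gen ha hj
  | one => simp
  | mul x y _ _ hx hy => rw [← mul_assoc, hx, mul_assoc, hy, ← mul_assoc]
  | inv x _ hx =>
    calc a * x⁻¹ = x⁻¹ * (x * a) * x⁻¹ := by group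
      _ = x⁻¹ * (a * x) * x⁻¹ := by rw [hx]
      _ = x⁻¹ * a := by group

theorem E_sq {a : G} (ha : a ∈ E) : a * a = 1 := by
  induction ha using Subgroup.closure_induction with
  | mem x hx =>
    obtain ⟨j, hj, rfl⟩ := hx
    exact dG_sq j
  | one => simp
  | mul x y hx' hy' hx hy =>
    have hc : y * x = x * y := E_comm hy' hx'
    calc x * y * (x * y) = x * (y * x) * y := by group
      _ = x * (x * y) * y := by rw [hc]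
      _ = (x * x) * (y * y) := by group
      _ = 1 := by rw [hx, hy, one_mul]
  | inv x _ hx =>
    rw [← mul_inv_rev, hx, inv_one]

end Cfsg.Agent.Helper17.Fi23Syl
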