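import Mathlib
import Cfsg.Agent.Helper17.Fi23Syl.Base
import Cfsg.Agent.Helper17.Fi23Syl.Chain

/-! Coordinates on the elementary abelian group `E` of the presented `Fi23`: `E` has order `2 ^ 11`,
equals the pointwise stabiliser of the 23 base points, and conjugation by an element permuting the
base acts on coordinates by an explicit matrix. -/

set_option autoImplicit false
set_option linter.all false
set_option maxRecDepth 100000

noncomputable section

namespace Cfsg.Agent.Helper17.Fi23Syl

open Cfsg.Spor Cfsg.Agent.Helper17.Fi23TC Cfsg.Agent.Helper17.Fi23Ord Cfsg.Agent.Helper17.Fi23Trans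

section generic

variable {Γ : Type*} [Group Γ]

/-- product of the `el k` over the bits `k < n` of `y` (highest index leftmost). -/
def bprod (el : ℕ → Γ) : ℕ → ℕ → Γ
  | 0, _ => 1
  | n + 1, y => (if y.testBit n then el n else 1) * bprod el n y

theorem bprod_zero (el : ℕ → Γ) (n : ℕ) : bprod el n 0 = 1 := by
  induction n with
  | zero => rfl
  | succ n ih => simp [bprod, ih]

theorem bprod_comm_of {el : ℕ → Γ} {g : Γ} (n : ℕ) (h : ∀ k < n, g * el k = el k * g) (y : ℕ) :
    g * bprod el n y = bprod el n y * g := by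
  induction n with
  | zero => simp [bprod]
  | succ n ih =>
    rw [bprod]
    have h1 := ih (fun k hk => h k (Nat.lt_succ_of_lt hk))
    by_cases hb : y.testBit n
    · rw [if_pos hb, ← mul_assoc, h n (Nat.lt_succ_self n), mul_assoc, h1, mul_assoc]
    · rw [if_neg hb, one_mul, h1]

theorem bprod_xor {el : ℕ → Γ} (n : ℕ) (hsq : ∀ k < n, el k * el k = 1)
    (hc : ∀ j < n, ∀ k < n, el j * el k = el k * el j) (u v : ℕ) :
    bprod el n (u ^^^ v) = bprod el n u * bprod el n v := by
  induction n with
  | zero => simp [bprod]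
  | succ n ih =>
    have ih' := ih (fun k hk => hsq k (Nat.lt_succ_of_lt hk))
      (fun j hj k hk => hc j (Nat.lt_succ_of_lt hj) k (Nat.lt_succ_of_lt hk))
    have hcm : ∀ y, el n * bprod el n y = bprod el n y * el n := fun y =>
      bprod_comm_of n (fun k hk => hc n (Nat.lt_succ_self n) k (Nat.lt_succ_of_lt hk)) y
    have hs := hsq n (Nat.lt_succ_self n)
    simp only [bprod, Nat.testBit_xor, ih']
    cases hu : u.testBit n <;> cases hv : v.testBit n
    · simp
    · simp only [Bool.false_bne, Bool.false_eq_true, if_false, if_true, one_mul]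
      rw [← mul_assoc, hcm u, mul_assoc]
    · simp only [Bool.bne_false, Bool.false_eq_true, if_false, if_true, one_mul, mul_assoc]
    · simp only [bne_self_eq_false, Bool.false_eq_true, if_false, if_true, one_mul]
      calc bprod el n u * bprod el n v = (el n * el n) * bprod el n u * bprod el n v := by
            rw [hs, one_mul]
        _ = el n * (el n * bprod el n u) * bprod el n v := by group
        _ = el n * (bprod el n u * el n) * bprod el n v := by rw [hcm u]
        _ = el n * bprod el n u * (el n * bprod el n v) := by group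

theorem map_bprod {Γ' : Type*} [Group Γ'] (f : Γ →* Γ') (el : ℕ → Γ) (n y : ℕ) :
    f (bprod el n y) = bprod (fun k => f (el k)) n y := by
  induction n with
  | zero => simp [bprod]
  | succ n ih =>
    rw [bprod, bprod, map_mul, ih]
    by_cases hb : y.testBit n
    · rw [if_pos hb, if_pos hb]
    · rw [if_neg hb, if_neg hb, map_one]

def xorfold (c : ℕ → ℕ) : ℕ → ℕ → ℕ
  | 0, _ => 0
  | n + 1, y => (if y.testBit n then c n else 0) ^^^ xorfold c n y

theorem xorfold_lt {c : ℕ → ℕ} {m : ℕ} (n : ℕ) (h : ∀ k < n, c k < 2 ^ m) (y : ℕ) :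
    xorfold c n y < 2 ^ m := by
  induction n with
  | zero => exact Nat.two_pow_pos m
  | succ n ih =>
    rw [xorfold]
    apply Nat.xor_lt_two_pow
    · by_cases hb : y.testBit n
      · rw [if_pos hb]; exact h n (Nat.lt_succ_self n)
      · rw [if_neg hb]; exact Nat.two_pow_pos m
    · exact ih (fun k hk => h k (Nat.lt_succ_of_lt hk))

theorem bprod_bprod {el : ℕ → Γ} (m : ℕ) (hsq : ∀ k < m, el k * el k = 1)
    (hc : ∀ j < m, ∀ k < m, el j * el k = el k * el j) (el' : ℕ → Γ) (c : ℕ → ℕ) (n : ℕ)
    (h : ∀ k < n, el' k = bprod el m (c k)) (y : ℕ) :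
    bprod el' n y = bprod el m (xorfold c n y) := by
  induction n with
  | zero => rw [bprod, xorfold, bprod_zero]
  | succ n ih =>
    rw [bprod, xorfold, bprod_xor m hsq hc, ih (fun k hk => h k (Nat.lt_succ_of_lt hk))]
    by_cases hb : y.testBit n
    · rw [if_pos hb, if_pos hb, h n (Nat.lt_succ_self n)]
    · rw [if_neg hb, if_neg hb, bprod_zero]

end generic

def Il : List ℕ := [0, 1, 2, 3, 5, 12, 4, 6, 7, 9, 10]

def expT : List ℕ := [1, 2, 4, 8, 64, 16, 128, 256, 497, 512, 1024, 1625, 32, 1421, 934, 1238, 1987, 877, 63, 1822, 762, 1717, 1386]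

def q0 : ℕ := 76

def r0 : ℕ := 1

def O32 : List (ℕ × ℕ) := [(0, 76), (64, 12123), (128, 14329), (192, 12095), (256, 13576), (320, 5486), (384, 1051), (448, 5100), (512, 13578), (576, 1262), (640, 3320), (704, 6512), (768, 422), (832, 4114), (896, 8119), (960, 4143), (1024, 9404), (1088, 5095), (1152, 1844), (1216, 8315), (1280, 1666), (1344, 19552), (1408, 14295), (1472, 15310), (1536, 6835), (1600, 8328), (1664, 14332), (1728, 12165), (1792, 14288), (1856, 1139), (1920, 225), (1984, 12122)]

def O64 : List (ℕ × ℕ) := [(0, 1), (1, 8006), (2, 2964), (3, 2227), (4, 1194), (5, 4995), (6, 8828), (7, 7041), (8, 670), (9, 3183), (10, 723), (11, 515), (12, 2095), (13, 4616), (14, 21987), (15, 23480), (16, 4106), (17, 4394), (18, 10969), (19, 9336), (20, 19696), (21, 16995), (22, 6222), (23, 11654), (24, 8083), (25, 2655), (26, 13515), (27, 11536), (28, 21864), (29, 21540), (30, 2009), (31, 2744), (32, 9574), (33, 14245), (34, 7448), (35, 6022), (36, 8997), (37, 10331), (38, 15537), (39, 17326), (40, 20060),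 (41, 14894), (42, 19360), (43, 17715), (44, 19799), (45, 20222), (46, 7476), (47, 8823), (48, 2548), (49, 521), (50, 23468), (51, 21870), (52, 23940), (53, 24756), (54, 4633), (55, 5926), (56, 25762), (57, 25509), (58, 4636), (59, 5929), (60, 3781), (61, 2839), (62, 13167), (63, 10853)]

def iI (k : ℕ) : ℕ := Il.getD k 0

def eX (j : ℕ) : ℕ := expT.getD j 0

theorem iI_lt {k : ℕ} (hk : k < 11) : iI k < 23 := by
  interval_cases k <;> decide

theorem eX_lt {j : ℕ} (hj : j < 23) : eX j < 2 ^ 11 := by
  interval_cases j <;> decide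

def el (k : ℕ) : G := dG (iI k)

def psi (y : ℕ) : G := bprod el 11 y

theorem el_sq : ∀ k < 11, el k * el k = 1 := fun k _ => dG_sq _

theorem el_comm : ∀ j < 11, ∀ k < 11, el j * el k = el k * el j :=
  fun j hj k hk => dG_comm (iI_lt hj) (iI_lt hk)

theorem psi_xor (u v : ℕ) : psi (u ^^^ v) = psi u * psi v := bprod_xor 11 el_sq el_comm u v

theorem psi_zero : psi 0 = 1 := bprod_zero el 11

theorem psi_sq (y : ℕ) : psi y * psi y = 1 := by
  rw [← psi_xor, Nat.xor_self, psi_zero]

theorem bprod_el_mem (n : ℕ) (hn : n ≤ 11) (y : ℕ) : bprod el n y ∈ E := by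
  induction n with
  | zero => exact E.one_mem
  | succ n ih =>
    rw [bprod]
    apply E.mul_mem _ (ih (Nat.le_of_succ_le hn))
    by_cases hb : y.testBit n
    · rw [if_pos hb]; exact dG_mem (iI_lt hn)
    · rw [if_neg hb]; exact E.one_mem

theorem psi_mem (y : ℕ) : psi y ∈ E := bprod_el_mem 11 le_rfl y

/-- the word of `psi y`. -/
def wordOf : ℕ → ℕ → List ℕ
  | 0, _ => []
  | n + 1, y => wordOf n y ++ (if y.testBit n then dW (iI n) else [])

theorem prodw_wordOf (n y : ℕ) : prodw (wordOf n y) = bprod el n y := by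
  induction n with
  | zero => rfl
  | succ n ih =>
    rw [wordOf, prodw_append, ih, bprod]
    by_cases hb : y.testBit n
    · rw [if_pos hb, if_pos hb]; rfl
    · rw [if_neg hb, if_neg hb]; rfl

theorem wordOf_lt (n : ℕ) (hn : n ≤ 11) (y : ℕ) : ∀ l ∈ wordOf n y, l < nl := by
  induction n with
  | zero => intro l hl; simp [wordOf] at hl
  | succ n ih =>
    intro l hl
    rw [wordOf, List.mem_append] at hl
    rcases hl with hl | hl
    · exact ih (Nat.le_of_succ_le hn) l hl
    · by_cases hb : y.testBit n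
      · rw [if_pos hb] at hl; exact dW_lt (iI_lt hn) l hl
      · rw [if_neg hb] at hl; simp at hl

theorem psi_eq_prodw (y : ℕ) : psi y = prodw (wordOf 11 y) := (prodw_wordOf 11 y).symm

theorem phi_psi (y p : ℕ) : phi (psi y) p = evalw (wordOf 11 y) p := by
  rw [psi_eq_prodw, phi_prodw_apply _ (wordOf_lt 11 le_rfl y)]

def chkExp : Bool :=
  (List.range 23).all fun j => chkBase (dW j ++ (wordOf 11 (eX j)).reverse)

theorem chkExp_ok : chkExp = true := by decide +kernel

theorem dG_eq_psi {j : ℕ} (hj : j < 23) : dG j = psi (eX j) := by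
  have h := chkExp_ok
  simp only [chkExp, List.all_eq_true, List.mem_range] at h
  rw [psi_eq_prodw, dG]
  exact prodw_eq_of_chk (h j hj)

theorem E_eq_psi {a : G} (ha : a ∈ E) : ∃ y, y < 2 ^ 11 ∧ a = psi y := by
  induction ha using Subgroup.closure_induction with
  | mem x hx =>
    obtain ⟨j, hj, rfl⟩ := hx
    exact ⟨eX j, eX_lt hj, dG_eq_psi hj⟩
  | one => exact ⟨0, by norm_num, psi_zero.symm⟩
  | mul x y _ _ hx hy =>
    obtain ⟨u, hu, rfl⟩ := hx
    obtain ⟨v, hv, rfl⟩ := hy
    exact ⟨u ^^^ v, Nat.xor_lt_two_pow hu hv, (psi_xor u v).symm⟩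
  | inv x _ hx =>
    obtain ⟨u, hu, rfl⟩ := hx
    refine ⟨u, hu, ?_⟩
    rw [inv_eq_iff_mul_eq_one]; exact psi_sq u

/-! ### the order of `E` -/

def chk32 : Bool := O32.all fun yp => Nat.beq (evalw (wordOf 11 yp.1) q0) yp.2

def chk64 : Bool := O64.all fun yp =>
  Nat.beq (evalw (wordOf 11 yp.1) q0) q0 && Nat.beq (evalw (wordOf 11 yp.1) r0) yp.2

theorem chk32_ok : chk32 = true := by decide +kernel

theorem chk64_ok : chk64 = true := by decide +kernel

theorem orb_step [Finite G] (K : Subgroup G) (β : ℕ) (O : List (ℕ × ℕ))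
    (hK : ∀ yp ∈ O, psi yp.1 ∈ K) (hev : ∀ yp ∈ O, evalw (wordOf 11 yp.1) β = yp.2)
    (hnd : (O.map Prod.snd).Nodup) :
    O.length * Nat.card ↥(K ⊓ stabP β) ≤ Nat.card K := by
  have h := step K β (O.map Prod.snd).toFinset (by
    intro p hp
    rw [List.mem_toFinset, List.mem_map] at hp
    obtain ⟨yp, hyp, rfl⟩ := hp
    exact ⟨psi yp.1, hK yp hyp, by rw [phi_psi, hev yp hyp]⟩)
  rwa [List.toFinset_card_of_nodup hnd, List.length_map] at h

theorem card_E_ge : 2048 ≤ Nat.card E := by
  haveI := finG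
  have h1 := orb_step E q0 O32 (fun yp _ => psi_mem _) (by
    have h := chk32_ok
    simp only [chk32, List.all_eq_true] at h
    intro yp hyp
    exact Nat.eq_of_beq_eq_true (h yp hyp)) (by decide +kernel)
  have h64 := chk64_ok
  simp only [chk64, List.all_eq_true, Bool.and_eq_true] at h64
  have h2 := orb_step (E ⊓ stabP q0) r0 O64 (by
    intro yp hyp
    refine Subgroup.mem_inf.mpr ⟨psi_mem _, ?_⟩
    rw [mem_stabP, phi_psi]
    exact Nat.eq_of_beq_eq_true (h64 yp hyp).1) (by
    intro yp hyp
    exact Nat.eq_of_beq_eq_true (h64 yp hyp).2) (by decide +kernel)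
  have hpos : 0 < Nat.card ↥(E ⊓ stabP q0 ⊓ stabP r0) := Nat.card_pos
  have e32 : O32.length = 32 := by decide
  have e64 : O64.length = 64 := by decide
  rw [e32] at h1
  rw [e64] at h2
  nlinarith

local instance decEqG : DecidableEq G := Classical.decEq G

theorem E_set_eq : (E : Set G) = ↑((Finset.range 2048).image psi) := by
  ext a
  simp only [SetLike.mem_coe, Finset.coe_image, Finset.coe_range, Set.mem_image, Set.mem_Iio]
  constructor
  · intro ha
    obtain ⟨y, hy, rfl⟩ := E_eq_psi ha
    exact ⟨y, hy, rfl⟩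
  · rintro ⟨y, _, rfl⟩
    exact psi_mem y

theorem card_E_image : Nat.card E = ((Finset.range 2048).image psi).card := by
  have h : Nat.card E = Nat.card ↥(E : Set G) := rfl
  rw [h, E_set_eq, Nat.card_coe_set_eq, Set.ncard_coe_finset]

theorem card_E : Nat.card E = 2048 := by
  apply le_antisymm _ card_E_ge
  rw [card_E_image]
  exact Finset.card_image_le.trans (by rw [Finset.card_range])

theorem psi_inj {y y' : ℕ} (hy : y < 2048) (hy' : y' < 2048) (h : psi y = psi y') : y = y' := by
  have h1 : ((Finset.range 2048).image psi).card = (Finset.range 2048).card := by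
    rw [← card_E_image, card_E, Finset.card_range]
  rw [Finset.card_image_iff] at h1
  exact h1 (by simpa using hy) (by simpa using hy') h

theorem Kof_Bl_le : Kof Bl ≤ Kof [5481, 4522, 4146, 4083, 2995, 0] := by
  intro g hg
  rw [mem_Kof] at hg ⊢
  intro b hb
  apply hg
  revert b
  decide

theorem E_eq_Kof : E = Kof Bl := by
  haveI := finG
  apply Subgroup.eq_of_le_of_card_ge E_le_Kof
  rw [card_E]
  exact (Subgroup.card_le_of_le Kof_Bl_le).trans card_Kof6_le

/-! ### the action on the base -/

/-- `a` permutes the base points as the list `L` says. -/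
def Acts (a : G) (L : List ℕ) : Prop := ∀ i, i < 23 → phi a (bP i) = bP (L.getD i 0)

def Valid (L : List ℕ) : Prop := ∀ i, i < 23 → L.getD i 0 < 23

def mcol (L : List ℕ) (k : ℕ) : ℕ := eX (L.getD (iI k) 0)

theorem conj_psi {a : G} {L : List ℕ} (h : Acts a L) (hv : Valid L) (y : ℕ) :
    a * psi y * a⁻¹ = psi (xorfold (mcol L) 11 y) := by
  have h1 : a * psi y * a⁻¹ = (MulAut.conj a).toMonoidHom (psi y) := by
    simp [MulAut.conj_apply]
  rw [h1, psi, map_bprod]
  apply bprod_bprod 11 el_sq el_comm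
  intro k hk
  have hi := iI_lt hk
  show (MulAut.conj a).toMonoidHom (el k) = psi (mcol L k)
  have h2 : (MulAut.conj a).toMonoidHom (el k) = a * dG (iI k) * a⁻¹ := by
    simp [MulAut.conj_apply, el]
  rw [h2, conj_dG hi (hv _ hi) (h _ hi), dG_eq_psi (hv _ hi)]
  rfl

theorem mcol_lt {L : List ℕ} (hv : Valid L) : ∀ k < 11, mcol L k < 2 ^ 11 :=
  fun k hk => eX_lt (hv _ (iI_lt hk))

end Cfsg.Agent.Helper17.Fi23Syl
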