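import Mathlib
import Cfsg.Agent.Helper17.Fi23Syl.Psi

/-! The Sylow 2-subgroup `T0 = E.S` of the presented `Fi23`, of order `2 ^ 18`. -/

set_option autoImplicit false
set_option linter.all false
set_option maxRecDepth 100000

noncomputable section

namespace Cfsg.Agent.Helper17.Fi23Syl

open Cfsg.Spor Cfsg.Agent.Helper17.Fi23TC Cfsg.Agent.Helper17.Fi23Ord Cfsg.Agent.Helper17.Fi23Trans

/-! ### permutations of `23` points as lists -/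

def leq : List ℕ → List ℕ → Bool
  | [], [] => true
  | a :: s, b :: t => Nat.beq a b && leq s t
  | _, _ => false

theorem leq_iff {s t : List ℕ} : leq s t = true ↔ s = t := by
  induction s generalizing t with
  | nil => cases t <;> simp [leq]
  | cons a s ih =>
    cases t with
    | nil => simp [leq]
    | cons b t => simp [leq, ih, Nat.beq_eq_true_eq]

def memL (L : List ℕ) : List (List ℕ) → Bool
  | [] => false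
  | M :: t => leq L M || memL L t

theorem memL_iff {L : List ℕ} {Ls : List (List ℕ)} : memL L Ls = true ↔ L ∈ Ls := by
  induction Ls with
  | nil => simp [memL]
  | cons M t ih => simp [memL, ih, leq_iff]

def idL : List ℕ := List.range 23

def comp (L L' : List ℕ) : List ℕ := (List.range 23).map fun i => L.getD (L'.getD i 0) 0

theorem comp_getD (L L' : List ℕ) {i : ℕ} (hi : i < 23) :
    (comp L L').getD i 0 = L.getD (L'.getD i 0) 0 := by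
  have hl : i < (comp L L').length := by simp [comp, hi]
  rw [List.getD_eq_getElem _ _ hl]
  simp [comp]

theorem comp_length (L L' : List ℕ) : (comp L L').length = 23 := by simp [comp]

theorem idL_getD {i : ℕ} (hi : i < 23) : idL.getD i 0 = i := by
  have hl : i < idL.length := by simp [idL, hi]
  rw [List.getD_eq_getElem _ _ hl]
  simp [idL]

def validB (L : List ℕ) : Bool := Nat.beq L.length 23 && L.all fun j => Nat.blt j 23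

theorem valid_of_validB {L : List ℕ} (h : validB L = true) : Valid L ∧ L.length = 23 := by
  simp only [validB, Bool.and_eq_true, List.all_eq_true, Nat.blt_eq] at h
  have hl : L.length = 23 := Nat.eq_of_beq_eq_true h.1
  refine ⟨?_, hl⟩
  intro i hi
  have hi' : i < L.length := by rw [hl]; exact hi
  rw [List.getD_eq_getElem _ _ hi']
  exact h.2 _ (List.getElem_mem hi')

theorem bP_inj : ∀ i < 23, ∀ j < 23, bP i = bP j → i = j := by decide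

theorem Acts_one : Acts 1 idL := by
  intro i hi
  rw [idL_getD hi, map_one, Equiv.Perm.one_apply]

theorem Acts_mul {a a' : G} {L L' : List ℕ} (h : Acts a L) (h' : Acts a' L') (hv : Valid L') :
    Acts (a * a') (comp L L') := by
  intro i hi
  rw [map_mul, Equiv.Perm.mul_apply, h' i hi, h _ (hv i hi), comp_getD _ _ hi]

theorem Acts_E {e : G} (he : e ∈ E) : Acts e idL := by
  intro i hi
  rw [idL_getD hi]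
  have := E_le_Kof he
  rw [mem_Kof] at this
  apply this
  rw [bP, List.getD_eq_getElem _ _ (show i < Bl.length from hi)]
  exact List.getElem_mem _

theorem Acts_mul_E {a e : G} {L : List ℕ} (h : Acts a L) (he : e ∈ E) : Acts (a * e) L := by
  intro i hi
  have h1 := Acts_E he i hi
  rw [idL_getD hi] at h1
  rw [map_mul, Equiv.Perm.mul_apply, h1, h i hi]

theorem mem_E_of_Acts {a : G} (h : Acts a idL) : a ∈ E := by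
  rw [E_eq_Kof, mem_Kof]
  intro b hb
  obtain ⟨j, hj, rfl⟩ := mem_Bl hb
  have := h j hj
  rwa [idL_getD hj] at this

theorem Acts_unique {a : G} {L L' : List ℕ} (h : Acts a L) (h' : Acts a L')
    (hv : validB L = true) (hv' : validB L' = true) : L = L' := by
  obtain ⟨v, l⟩ := valid_of_validB hv
  obtain ⟨v', l'⟩ := valid_of_validB hv'
  apply List.ext_getElem (by rw [l, l'])
  intro i hi hi'
  have hi23 : i < 23 := by rw [l] at hi; exact hi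
  have e := (h i hi23).symm.trans (h' i hi23)
  have := bP_inj _ (v i hi23) _ (v' i hi23) e
  rwa [List.getD_eq_getElem _ _ hi, List.getD_eq_getElem _ _ hi'] at this

theorem Acts_inv_mul {a r : G} {L : List ℕ} (ha : Acts a L) (hr : Acts r L) : r⁻¹ * a ∈ E := by
  apply mem_E_of_Acts
  intro i hi
  rw [idL_getD hi, map_mul, Equiv.Perm.mul_apply, ha i hi, ← hr i hi, map_inv]
  simp

def sWl : List (List ℕ) :=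
  [[0, 1, 2, 3, 5, 6, 5, 4, 3, 8, 3, 2, 1, 4, 9, 8, 7, 6, 5, 4, 3, 2, 1, 0, 8, 3, 2, 1, 4, 3, 2, 5, 6, 7, 9, 8, 3, 2, 1, 0, 4, 3, 2, 5, 4, 8, 3, 2, 4, 9, 8, 0, 1, 2, 3, 4, 6, 5, 4, 3, 2, 8, 3, 2, 1, 9, 7, 6, 5, 4, 3, 2, 1, 0, 8, 3, 2, 1, 4, 3, 5, 4, 6, 5, 7, 9, 8, 3, 2, 1, 4, 3, 2, 0, 6, 5, 4, 9, 8, 3, 2, 1, 0, 4, 3, 2, 5, 8, 9, 7, 6, 5, 4, 3, 2, 1, 0, 8, 3, 2, 1, 4, 3, 2, 5, 6, 7, 8, 9, 8, 3, 2, 1, 0, 4, 3, 2, 1, 5, 4, 6, 8, 9],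
   [2, 1, 0, 5, 6, 5, 9, 8, 3, 2, 1, 0, 4, 3, 8, 9, 7, 6, 5, 4, 3, 2, 1, 0, 8, 3, 2, 1, 4, 3, 5, 4, 6, 7, 9, 8, 3, 2, 1, 4, 3, 2, 8, 3, 4, 5, 0, 1, 2, 3, 4, 6, 5, 4, 3, 2, 8, 3, 2, 1, 9, 7, 6, 5, 4, 3, 2, 1, 0, 8, 3, 2, 1, 4, 3, 5, 4, 6, 5, 7, 9, 8, 3, 2, 1, 4, 3, 2, 0, 6, 5, 4, 9, 8, 3, 2, 1, 0, 4, 3, 2, 8, 3, 9, 8, 7, 6, 5, 4, 3, 2, 1, 0, 8, 3, 2, 1, 4, 3, 2, 5, 6, 7, 8, 9, 8, 3, 2, 1, 0, 4, 3, 5, 6, 8, 9, 2, 1, 0, 5, 6, 5, 9, 8, 3, 2, 1, 0, 4, 3, 8, 9, 7, 6, 5, 4, 3, 2, 1, 0, 8, 3, 2, 1, 4, 3, 5, 4, 6, 7, 9, 8, 3, 2, 1, 4, 3, 2, 8, 3, 4, 5, 0, 1, 2, 3, 4, 6, 5, 4, 3, 2, 8, 3, 2, 1, 9, 7, 6, 5, 4, 3, 2, 1, 0, 8, 3, 2, 1, 4, 3, 5, 4, 6, 5, 7, 9, 8, 3, 2, 1, 4, 3, 2, 0, 6, 5, 4, 9, 8, 3, 2, 1, 0, 4, 3, 2, 8, 3, 9, 8, 7, 6, 5, 4, 3, 2, 1, 0, 8, 3, 2, 1, 4, 3, 2, 5, 6, 7, 8, 9, 8, 3, 2, 1, 0, 4, 3, 5, 6, 8,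 9, 2, 1, 0, 5, 6, 5, 9, 8, 3, 2, 1, 0, 4, 3, 8, 9, 7, 6, 5, 4, 3, 2, 1, 0, 8, 3, 2, 1, 4, 3, 5, 4, 6, 7, 9, 8, 3, 2, 1, 4, 3, 2, 8, 3, 4, 5, 0, 1, 2, 3, 4, 6, 5, 4, 3, 2, 8, 3, 2, 1, 9, 7, 6, 5, 4, 3, 2, 1, 0, 8, 3, 2, 1, 4, 3, 5, 4, 6, 5, 7, 9, 8, 3, 2, 1, 4, 3, 2, 0, 6, 5, 4, 9, 8, 3, 2, 1, 0, 4, 3, 2, 8, 3, 9, 8, 7, 6, 5, 4, 3, 2, 1, 0, 8, 3, 2, 1, 4, 3, 2, 5, 6, 7, 8, 9, 8, 3, 2, 1, 0, 4, 3, 5, 6, 8, 9],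
   [0, 1, 2, 3, 6, 5, 4, 3, 8, 3, 2, 1, 4, 9, 8, 7, 6, 5, 4, 3, 2, 1, 0, 8, 3, 2, 1, 4, 3, 2, 5, 4, 6, 7, 9, 8, 3, 2, 1, 4, 3, 2, 5, 4, 6, 0, 1, 2, 3, 4, 5, 6, 5, 4, 3, 2, 8, 3, 2, 1, 9, 8, 7, 6, 5, 4, 3, 2, 1, 0, 8, 3, 2, 1, 4, 3, 5, 4, 6, 7, 8, 9, 8, 3, 2, 1, 4, 3, 2, 5, 6, 8, 0, 1, 2, 3, 6, 5, 4, 3, 8, 3, 2, 1, 4, 9, 8, 7, 6, 5, 4, 3, 2, 1, 0, 8, 3, 2, 1, 4, 3, 2, 5, 4, 6, 7, 9, 8, 3, 2, 1, 4, 3, 2, 5, 4, 6, 0, 1, 2, 3, 4, 5, 6, 5, 4, 3, 2, 8, 3, 2, 1, 9, 8, 7, 6, 5, 4, 3, 2, 1, 0, 8, 3, 2, 1, 4, 3, 5, 4, 6, 7, 8, 9, 8, 3, 2, 1, 4, 3, 2, 5, 6, 8, 0, 1, 2, 3, 6, 5, 4, 3, 8, 3, 2, 1, 4, 9, 8, 7, 6, 5, 4, 3, 2, 1, 0, 8, 3, 2, 1, 4, 3, 2, 5, 4, 6, 7, 9, 8, 3, 2, 1, 4, 3, 2, 5, 4, 6, 0, 1, 2, 3, 4, 5, 6, 5, 4, 3, 2, 8, 3, 2, 1, 9, 8, 7, 6, 5, 4, 3, 2, 1, 0, 8, 3, 2, 1, 4, 3, 5, 4, 6, 7, 8, 9, 8, 3, 2, 1, 4,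 3, 2, 5, 6, 8, 0, 1, 2, 3, 6, 5, 4, 3, 8, 3, 2, 1, 4, 9, 8, 7, 6, 5, 4, 3, 2, 1, 0, 8, 3, 2, 1, 4, 3, 2, 5, 4, 6, 7, 9, 8, 3, 2, 1, 4, 3, 2, 5, 4, 6, 0, 1, 2, 3, 4, 5, 6, 5, 4, 3, 2, 8, 3, 2, 1, 9, 8, 7, 6, 5, 4, 3, 2, 1, 0, 8, 3, 2, 1, 4, 3, 5, 4, 6, 7, 8, 9, 8, 3, 2, 1, 4, 3, 2, 5, 6, 8, 0, 1, 2, 3, 6, 5, 4, 3, 8, 3, 2, 1, 4, 9, 8, 7, 6, 5, 4, 3, 2, 1, 0, 8, 3, 2, 1, 4, 3, 2, 5, 4, 6, 7, 9, 8, 3, 2, 1, 4, 3, 2, 5, 4, 6, 0, 1, 2, 3, 4, 5, 6, 5, 4, 3, 2, 8, 3, 2, 1, 9, 8, 7, 6, 5, 4, 3, 2, 1, 0, 8, 3, 2, 1, 4, 3, 5, 4, 6, 7, 8, 9, 8, 3, 2, 1, 4, 3, 2, 5, 6, 8, 0, 1, 2, 3, 6, 5, 4, 3, 8, 3, 2, 1, 4, 9, 8, 7, 6, 5, 4, 3, 2, 1, 0, 8, 3, 2, 1, 4, 3, 2, 5, 4, 6, 7, 9, 8, 3, 2, 1, 4, 3, 2, 5, 4, 6, 0, 1, 2, 3, 4, 5, 6, 5, 4, 3, 2, 8, 3, 2, 1, 9, 8, 7, 6, 5, 4, 3, 2, 1, 0, 8, 3, 2, 1, 4, 3, 5, 4, 6, 7, 8, 9, 8,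 3, 2, 1, 4, 3, 2, 5, 6, 8, 0, 1, 2, 3, 6, 5, 4, 3, 8, 3, 2, 1, 4, 9, 8, 7, 6, 5, 4, 3, 2, 1, 0, 8, 3, 2, 1, 4, 3, 2, 5, 4, 6, 7, 9, 8, 3, 2, 1, 4, 3, 2, 5, 4, 6, 0, 1, 2, 3, 4, 5, 6, 5, 4, 3, 2, 8, 3, 2, 1, 9, 8, 7, 6, 5, 4, 3, 2, 1, 0, 8, 3, 2, 1, 4, 3, 5, 4, 6, 7, 8, 9, 8, 3, 2, 1, 4, 3, 2, 5, 6, 8]]

def sL : List (List ℕ) :=
  [[19, 17, 6, 15, 20, 2, 14, 11, 18, 16, 21, 4, 12, 1, 8, 10, 9, 3, 0, 5, 7, 22, 13],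
   [0, 10, 15, 22, 4, 5, 6, 7, 8, 16, 1, 20, 12, 18, 21, 2, 9, 19, 13, 17, 11, 14, 3],
   [21, 15, 22, 18, 4, 19, 17, 7, 14, 9, 13, 11, 12, 10, 8, 1, 16, 6, 3, 5, 20, 0, 2]]

def sLi : List (List ℕ) :=
  [[18, 13, 5, 17, 11, 19, 2, 20, 14, 16, 15, 7, 12, 22, 6, 3, 9, 1, 8, 0, 4, 10, 21],
   [0, 10, 15, 22, 4, 5, 6, 7, 8, 16, 1, 20, 12, 18, 21, 2, 9, 19, 13, 17, 11, 14, 3],
   [21, 15, 22, 18, 4, 19, 17, 7, 14, 9, 13, 11, 12, 10, 8, 1, 16, 6, 3, 5, 20, 0, 2]]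

def Slist : List (List ℕ) :=
  [[0, 1, 2, 3, 4, 5, 6, 7, 8, 9, 10, 11, 12, 13, 14, 15, 16, 17, 18, 19, 20, 21, 22],
   [19, 17, 6, 15, 20, 2, 14, 11, 18, 16, 21, 4, 12, 1, 8, 10, 9, 3, 0, 5, 7, 22, 13],
   [0, 10, 15, 22, 4, 5, 6, 7, 8, 16, 1, 20, 12, 18, 21, 2, 9, 19, 13, 17, 11, 14, 3],
   [21, 15, 22, 18, 4, 19, 17, 7, 14, 9, 13, 11, 12, 10, 8, 1, 16, 6, 3, 5, 20, 0, 2],
   [5, 3, 14, 10, 7, 6, 8, 4, 0, 9, 22, 20, 12, 17, 18, 21, 16, 15, 19, 2, 11, 13, 1],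
   [19, 21, 10, 13, 20, 2, 14, 11, 18, 9, 17, 7, 12, 0, 22, 6, 16, 5, 1, 3, 4, 8, 15],
   [22, 10, 13, 0, 20, 5, 3, 11, 8, 16, 1, 4, 12, 21, 18, 17, 9, 14, 15, 2, 7, 19, 6],
   [17, 19, 6, 2, 11, 15, 21, 20, 13, 9, 14, 4, 12, 10, 8, 1, 16, 22, 0, 5, 7, 3, 18],
   [14, 2, 3, 13, 4, 17, 19, 7, 21, 16, 18, 20, 12, 1, 8, 10, 9, 6, 22, 5, 11, 0, 15],
   [5, 6, 17, 1, 20, 22, 8, 11, 3, 16, 0, 4, 12, 15, 14, 13, 9, 18, 21, 19, 7, 2, 10],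
   [21, 13, 1, 2, 4, 19, 17, 7, 14, 16, 15, 20, 12, 3, 0, 22, 9, 5, 10, 6, 11, 8, 18],
   [2, 15, 8, 21, 11, 14, 18, 20, 19, 16, 13, 7, 12, 3, 0, 22, 9, 10, 5, 6, 4, 1, 17],
   [5, 22, 21, 1, 7, 6, 8, 4, 0, 16, 3, 11, 12, 19, 13, 14, 9, 2, 17, 15, 20, 18, 10],
   [13, 21, 1, 19, 7, 2, 15, 4, 18, 9, 17, 20, 12, 22, 0, 3, 16, 8, 10, 6, 11, 5, 14],
   [3, 5, 14, 6, 4, 10, 22, 7, 1, 16, 8, 20, 12, 21, 18, 17, 9, 13, 19, 2, 11, 15, 0],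
   [8, 6, 15, 1, 20, 3, 5, 11, 22, 9, 0, 7, 12, 17, 18, 21, 16, 14, 13, 2, 4, 19, 10],
   [2, 14, 3, 17, 7, 13, 18, 4, 15, 9, 19, 20, 12, 10, 8, 1, 16, 0, 22, 5, 11, 6, 21],
   [22, 1, 17, 6, 20, 5, 3, 11, 8, 9, 10, 7, 12, 15, 19, 13, 16, 2, 21, 14, 4, 18, 0],
   [17, 14, 1, 18, 11, 15, 21, 20, 13, 16, 19, 7, 12, 0, 3, 6, 9, 5, 10, 22, 4, 8, 2],
   [3, 1, 18, 0, 11, 5, 22, 20, 8, 9, 10, 4, 12, 14, 13, 19, 16, 21, 2, 15, 7, 17, 6],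
   [5, 6, 19, 10, 11, 3, 8, 20, 22, 9, 0, 4, 12, 2, 21, 18, 16, 13, 14, 17, 7, 15, 1],
   [14, 18, 10, 15, 4, 17, 19, 7, 21, 9, 2, 11, 12, 22, 0, 3, 16, 5, 1, 6, 20, 8, 13],
   [19, 18, 8, 13, 7, 17, 14, 4, 21, 9, 2, 20, 12, 6, 3, 0, 16, 1, 5, 22, 11, 10, 15],
   [5, 0, 13, 10, 20, 22, 8, 11, 3, 9, 6, 7, 12, 21, 2, 17, 16, 19, 15, 18, 4, 14, 1],
   [2, 13, 10, 21, 20, 19, 18, 11, 14, 16, 15, 4, 12, 0, 3, 6, 9, 8, 1, 22, 7, 5, 17],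
   [6, 5, 17, 22, 11, 1, 0, 20, 10, 9, 8, 4, 12, 13, 14, 15, 16, 2, 21, 19, 7, 18, 3],
   [8, 22, 18, 10, 4, 6, 5, 7, 0, 16, 3, 20, 12, 15, 14, 13, 9, 17, 2, 19, 11, 21, 1],
   [6, 10, 18, 22, 4, 8, 0, 7, 5, 9, 1, 11, 12, 15, 19, 13, 16, 21, 2, 14, 20, 17, 3],
   [2, 13, 22, 17, 11, 14, 18, 20, 19, 9, 15, 4, 12, 5, 1, 8, 16, 6, 3, 10, 7, 0, 21],
   [1, 22, 17, 5, 11, 6, 10, 20, 0, 16, 3, 7, 12, 13, 19, 15, 9, 18, 21, 14, 4, 2, 8],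
   [15, 2, 8, 14, 20, 21, 13, 11, 17, 9, 18, 7, 12, 22, 0, 3, 16, 1, 5, 6, 4, 10, 19],
   [18, 14, 10, 17, 7, 15, 2, 4, 13, 16, 19, 11, 12, 3, 0, 22, 9, 8, 1, 6, 20, 5, 21],
   [6, 8, 15, 3, 11, 1, 0, 20, 10, 16, 5, 7, 12, 21, 18, 17, 9, 19, 13, 2, 4, 14, 22],
   [13, 17, 3, 14, 7, 2, 15, 4, 18, 16, 21, 11, 12, 10, 5, 1, 9, 6, 22, 8, 20, 0, 19],
   [3, 8, 17, 0, 4, 10, 22, 7, 1, 9, 5, 11, 12, 19, 15, 14, 16, 2, 21, 13, 20, 18, 6],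
   [15, 17, 0, 19, 4, 2, 13, 7, 18, 16, 21, 20, 12, 8, 1, 5, 9, 22, 6, 10, 11, 3, 14],
   [2, 14, 5, 21, 4, 15, 18, 7, 13, 16, 19, 20, 12, 6, 22, 0, 9, 1, 8, 3, 11, 10, 17],
   [8, 0, 21, 10, 20, 3, 5, 11, 22, 16, 6, 4, 12, 13, 19, 15, 9, 2, 17, 14, 7, 18, 1],
   [5, 0, 18, 1, 11, 3, 8, 20, 22, 16, 6, 7, 12, 14, 15, 19, 9, 17, 2, 13, 4, 21, 10],
   [2, 19, 1, 21, 7, 13, 18, 4, 15, 16, 14, 11, 12, 22, 6, 3, 9, 5, 10, 0, 20, 8, 17],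
   [6, 1, 21, 22, 7, 5, 0, 4, 8, 9, 10, 20, 12, 19, 15, 14, 16, 18, 17, 13, 11, 2, 3],
   [18, 13, 0, 21, 20, 14, 2, 11, 19, 9, 15, 7, 12, 10, 8, 1, 16, 3, 6, 5, 4, 22, 17],
   [22, 5, 21, 6, 4, 1, 3, 7, 10, 9, 8, 11, 12, 14, 13, 19, 16, 18, 17, 15, 20, 2, 0],
   [8, 6, 2, 10, 11, 22, 5, 20, 3, 16, 0, 7, 12, 19, 13, 14, 9, 21, 18, 15, 4, 17, 1],
   [15, 21, 22, 19, 7, 18, 13, 4, 2, 16, 17, 11, 12, 1, 8, 10, 9, 0, 3, 5, 20, 6, 14],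
   [3, 10, 19, 6, 11, 5, 22, 20, 8, 16, 1, 7, 12, 2, 17, 18, 9, 15, 14, 21, 4, 13, 0],
   [17, 13, 8, 18, 7, 19, 21, 4, 14, 16, 15, 11, 12, 6, 22, 0, 9, 10, 5, 3, 20, 1, 2],
   [15, 18, 1, 14, 11, 17, 13, 20, 21, 9, 2, 4, 12, 0, 22, 6, 16, 8, 10, 3, 7, 5, 19],
   [6, 5, 19, 3, 20, 10, 0, 11, 1, 16, 8, 4, 12, 18, 21, 2, 9, 15, 14, 17, 7, 13, 22],
   [8, 3, 13, 1, 4, 6, 5, 7, 0, 9, 22, 11, 12, 2, 21, 18, 16, 19, 15, 17, 20, 14, 10],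
   [22, 1, 14, 0, 11, 8, 3, 20, 5, 16, 10, 7, 12, 18, 21, 2, 9, 13, 19, 17, 4, 15, 6],
   [19, 2, 0, 15, 7, 17, 14, 4, 21, 16, 18, 11, 12, 5, 10, 8, 9, 22, 6, 1, 20, 3, 13],
   [10, 0, 15, 5, 7, 22, 1, 4, 3, 9, 6, 20, 12, 2, 21, 18, 16, 14, 13, 17, 11, 19, 8],
   [18, 19, 8, 17, 4, 13, 2, 7, 15, 16, 14, 20, 12, 0, 3, 6, 9, 10, 5, 22, 11, 1, 21],
   [14, 17, 1, 15, 20, 18, 19, 11, 2, 9, 21, 7, 12, 6, 3, 0, 16, 8, 10, 22, 4, 5, 13],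
   [22, 8, 18, 6, 7, 10, 3, 4, 1, 9, 5, 20, 12, 13, 14, 15, 16, 21, 2, 19, 11, 17, 0],
   [2, 15, 6, 17, 20, 19, 18, 11, 14, 9, 13, 7, 12, 1, 5, 10, 16, 22, 0, 8, 4, 3, 21],
   [18, 15, 3, 21, 11, 19, 2, 20, 14, 9, 13, 4, 12, 8, 10, 5, 16, 0, 22, 1, 7, 6, 17],
   [19, 17, 5, 13, 11, 18, 14, 20, 2, 9, 21, 4, 12, 22, 0, 3, 16, 10, 8, 6, 7, 1, 15],
   [14, 21, 0, 13, 20, 18, 19, 11, 2, 16, 17, 4, 12, 10, 5, 1, 9, 22, 6, 8, 7, 3, 15],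
   [6, 1, 13, 3, 4, 8, 0, 7, 5, 16, 10, 20, 12, 2, 17, 18, 9, 14, 15, 21, 11, 19, 22],
   [17, 13, 3, 2, 4, 14, 21, 7, 19, 9, 15, 11, 12, 1, 5, 10, 16, 0, 22, 8, 20, 6, 18],
   [10, 6, 18, 8, 7, 22, 1, 4, 3, 16, 0, 11, 12, 13, 19, 15, 9, 17, 2, 14, 20, 21, 5],
   [0, 8, 21, 3, 11, 10, 6, 20, 1, 9, 5, 4, 12, 15, 19, 13, 16, 18, 17, 14, 7, 2, 22],
   [1, 3, 15, 8, 11, 6, 10, 20, 0, 9, 22, 4, 12, 21, 2, 17, 16, 14, 13, 18, 7, 19, 5],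
   [15, 18, 3, 19, 20, 21, 13, 11, 17, 16, 2, 4, 12, 5, 10, 8, 9, 6, 22, 1, 7, 0, 14],
   [10, 3, 19, 5, 20, 6, 1, 11, 0, 9, 22, 7, 12, 18, 17, 2, 16, 13, 14, 21, 4, 15, 8],
   [6, 8, 2, 22, 20, 10, 0, 11, 1, 9, 5, 7, 12, 14, 13, 19, 16, 17, 18, 15, 4, 21, 3],
   [18, 19, 22, 21, 7, 15, 2, 4, 13, 9, 14, 20, 12, 1, 5, 10, 16, 6, 3, 8, 11, 0, 17],
   [2, 19, 0, 17, 4, 15, 18, 7, 13, 9, 14, 11, 12, 8, 10, 5, 16, 3, 6, 1, 20, 22, 21],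
   [14, 17, 22, 13, 11, 2, 19, 20, 18, 16, 21, 7, 12, 5, 10, 8, 9, 0, 3, 1, 4, 6, 15],
   [0, 1, 19, 22, 7, 8, 6, 4, 5, 16, 10, 11, 12, 21, 18, 17, 9, 15, 14, 2, 20, 13, 3],
   [13, 2, 22, 14, 20, 17, 15, 11, 21, 16, 18, 4, 12, 8, 1, 5, 9, 0, 3, 10, 7, 6, 19],
   [18, 14, 6, 21, 4, 13, 2, 7, 15, 9, 19, 11, 12, 5, 1, 8, 16, 22, 0, 10, 20, 3, 17],
   [10, 22, 13, 5, 11, 0, 1, 20, 6, 9, 3, 4, 12, 17, 18, 21, 16, 19, 15, 2, 7, 14, 8],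
   [15, 21, 5, 14, 4, 2, 13, 7, 18, 9, 17, 11, 12, 6, 3, 0, 16, 10, 8, 22, 20, 1, 19],
   [10, 0, 17, 8, 4, 3, 1, 7, 22, 16, 6, 20, 12, 19, 13, 14, 9, 18, 21, 15, 11, 2, 5],
   [14, 2, 5, 15, 7, 21, 19, 4, 17, 9, 18, 20, 12, 0, 22, 6, 16, 10, 8, 3, 11, 1, 13],
   [18, 15, 1, 17, 20, 14, 2, 11, 19, 16, 13, 4, 12, 6, 22, 0, 9, 5, 10, 3, 7, 8, 21],
   [13, 17, 8, 19, 4, 18, 15, 7, 2, 9, 21, 11, 12, 0, 22, 6, 16, 1, 5, 3, 20, 10, 14],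
   [21, 19, 10, 2, 11, 13, 17, 20, 15, 16, 14, 7, 12, 6, 22, 0, 9, 8, 1, 3, 4, 5, 18],
   [0, 5, 18, 3, 20, 1, 6, 11, 10, 9, 8, 7, 12, 19, 15, 14, 16, 21, 2, 13, 4, 17, 22],
   [8, 3, 17, 10, 7, 0, 5, 4, 6, 16, 22, 11, 12, 14, 15, 19, 9, 18, 21, 13, 20, 2, 1],
   [13, 18, 0, 14, 11, 21, 15, 20, 17, 16, 2, 7, 12, 1, 8, 10, 9, 22, 6, 5, 4, 3, 19],
   [6, 10, 14, 3, 7, 5, 0, 4, 8, 16, 1, 11, 12, 17, 2, 21, 9, 13, 19, 18, 20, 15, 22],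
   [5, 3, 2, 1, 4, 0, 8, 7, 6, 16, 22, 20, 12, 13, 19, 15, 9, 21, 18, 14, 11, 17, 10],
   [22, 8, 19, 0, 4, 1, 3, 7, 10, 16, 5, 20, 12, 17, 2, 21, 9, 15, 14, 18, 11, 13, 6],
   [8, 0, 14, 1, 11, 22, 5, 20, 3, 9, 6, 4, 12, 18, 17, 2, 16, 15, 19, 21, 7, 13, 10],
   [15, 17, 10, 14, 7, 18, 13, 4, 2, 9, 21, 20, 12, 3, 6, 22, 16, 5, 1, 0, 11, 8, 19],
   [3, 10, 21, 0, 20, 8, 22, 11, 5, 9, 1, 7, 12, 13, 14, 15, 16, 18, 17, 19, 4, 2, 6],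
   [17, 15, 0, 2, 7, 19, 21, 4, 14, 9, 13, 20, 12, 5, 1, 8, 16, 3, 6, 10, 11, 22, 18],
   [1, 0, 2, 5, 7, 3, 10, 4, 22, 16, 6, 11, 12, 15, 14, 13, 9, 21, 18, 19, 20, 17, 8],
   [3, 8, 13, 6, 7, 1, 22, 4, 10, 16, 5, 11, 12, 18, 21, 2, 9, 14, 15, 17, 20, 19, 0],
   [15, 2, 6, 19, 11, 17, 13, 20, 21, 16, 18, 7, 12, 10, 5, 1, 9, 3, 0, 8, 4, 22, 14],
   [17, 19, 5, 18, 20, 13, 21, 11, 15, 16, 14, 4, 12, 3, 0, 22, 9, 1, 8, 6, 7, 10, 2],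
   [22, 10, 2, 6, 11, 8, 3, 20, 5, 9, 1, 4, 12, 19, 15, 14, 16, 17, 18, 13, 7, 21, 0],
   [1, 22, 14, 8, 20, 0, 10, 11, 6, 9, 3, 7, 12, 2, 21, 18, 16, 15, 19, 17, 4, 13, 5],
   [1, 6, 21, 5, 4, 22, 10, 7, 3, 16, 0, 20, 12, 14, 15, 19, 9, 2, 17, 13, 11, 18, 8],
   [19, 21, 3, 15, 11, 18, 14, 20, 2, 16, 17, 7, 12, 8, 1, 5, 9, 6, 22, 10, 4, 0, 13],
   [22, 5, 15, 0, 7, 10, 3, 4, 1, 16, 8, 11, 12, 2, 17, 18, 9, 19, 13, 21, 20, 14, 6],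
   [18, 13, 5, 17, 11, 19, 2, 20, 14, 16, 15, 7, 12, 22, 6, 3, 9, 1, 8, 0, 4, 10, 21],
   [8, 22, 19, 1, 7, 0, 5, 4, 6, 9, 3, 20, 12, 21, 2, 17, 16, 13, 14, 18, 11, 15, 10],
   [3, 1, 15, 6, 20, 8, 22, 11, 5, 16, 10, 4, 12, 17, 2, 21, 9, 19, 13, 18, 7, 14, 0],
   [21, 14, 0, 18, 11, 13, 17, 20, 15, 9, 19, 4, 12, 1, 5, 10, 16, 3, 6, 8, 7, 22, 2],
   [19, 18, 22, 15, 4, 21, 14, 7, 17, 16, 2, 20, 12, 10, 5, 1, 9, 0, 3, 8, 11, 6, 13],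
   [17, 15, 10, 18, 4, 14, 21, 7, 19, 16, 13, 20, 12, 22, 6, 3, 9, 8, 1, 0, 11, 5, 2],
   [21, 15, 5, 2, 7, 14, 17, 4, 19, 16, 13, 11, 12, 0, 3, 6, 9, 1, 8, 22, 20, 10, 18],
   [14, 18, 6, 13, 7, 21, 19, 4, 17, 16, 2, 11, 12, 8, 1, 5, 9, 3, 0, 10, 20, 22, 15],
   [0, 5, 13, 22, 11, 10, 6, 20, 1, 16, 8, 7, 12, 17, 2, 21, 9, 14, 15, 18, 4, 19, 3],
   [1, 6, 13, 8, 7, 3, 10, 4, 22, 9, 0, 20, 12, 18, 17, 2, 16, 19, 15, 21, 11, 14, 5],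
   [0, 8, 14, 22, 20, 1, 6, 11, 10, 16, 5, 4, 12, 2, 17, 18, 9, 13, 19, 21, 7, 15, 3],
   [10, 22, 2, 8, 20, 6, 1, 11, 0, 16, 3, 4, 12, 14, 15, 19, 9, 21, 18, 13, 7, 17, 5],
   [21, 19, 3, 18, 20, 15, 17, 11, 13, 9, 14, 7, 12, 5, 1, 8, 16, 0, 22, 10, 4, 6, 2],
   [0, 10, 17, 3, 7, 8, 6, 4, 5, 9, 1, 20, 12, 14, 13, 19, 16, 2, 21, 15, 11, 18, 22],
   [1, 3, 18, 5, 20, 0, 10, 11, 6, 16, 22, 4, 12, 19, 13, 14, 9, 17, 2, 15, 7, 21, 8],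
   [1, 0, 19, 8, 4, 22, 10, 7, 3, 9, 6, 11, 12, 17, 18, 21, 16, 13, 14, 2, 20, 15, 5],
   [14, 21, 8, 15, 11, 2, 19, 20, 18, 9, 17, 4, 12, 3, 6, 22, 16, 1, 5, 0, 7, 10, 13],
   [13, 18, 5, 19, 20, 17, 15, 11, 21, 9, 2, 7, 12, 3, 6, 22, 16, 10, 8, 0, 4, 1, 14],
   [10, 3, 21, 8, 11, 0, 1, 20, 6, 16, 22, 7, 12, 15, 14, 13, 9, 2, 17, 19, 4, 18, 5],
   [10, 6, 14, 5, 4, 3, 1, 7, 22, 9, 0, 11, 12, 21, 2, 17, 16, 15, 19, 18, 20, 13, 8],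
   [3, 5, 2, 0, 7, 1, 22, 4, 10, 9, 8, 20, 12, 15, 19, 13, 16, 17, 18, 14, 11, 21, 6],
   [13, 21, 6, 14, 4, 18, 15, 7, 2, 16, 17, 20, 12, 5, 10, 8, 9, 3, 0, 1, 11, 22, 19],
   [17, 14, 22, 2, 20, 13, 21, 11, 15, 9, 19, 7, 12, 8, 10, 5, 16, 6, 3, 1, 4, 0, 18],
   [5, 22, 15, 10, 4, 0, 8, 7, 6, 9, 3, 11, 12, 18, 17, 2, 16, 14, 13, 21, 20, 19, 1],
   [13, 2, 10, 19, 11, 21, 15, 20, 17, 9, 18, 4, 12, 6, 3, 0, 16, 5, 1, 22, 7, 8, 14],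
   [19, 2, 1, 13, 4, 21, 14, 7, 17, 9, 18, 11, 12, 3, 6, 22, 16, 8, 10, 0, 20, 5, 15],
   [21, 13, 6, 18, 7, 14, 17, 4, 19, 9, 15, 20, 12, 8, 10, 5, 16, 22, 0, 1, 11, 3, 2],
   [21, 14, 8, 2, 20, 15, 17, 11, 13, 16, 19, 4, 12, 22, 6, 3, 9, 10, 5, 0, 7, 1, 18]]

def Stree : List (ℕ × ℕ) := [(0, 0), (0, 1), (0, 2), (1, 0), (1, 1), (1, 2), (2, 0), (2, 2), (3, 0), (3, 1), (4, 0), (4, 1), (4, 2), (5, 0), (5, 2), (6, 0), (6, 1), (7, 1), (7, 2), (8, 0), (8, 1), (9, 0), (9, 1), (9, 2), (10, 0), (10, 2), (11, 0), (11, 1), (11, 2), (12, 0), (12, 2), (13, 0), (13, 1), (14, 1), (14, 2), (15, 0), (15, 1), (16, 0), (16, 1), (16, 2), (17, 2), (18, 0), (18, 2), (19, 0), (19, 1), (20, 0), (20, 2), (21, 0), (21, 2), (22, 0), (22, 1), (22, 2), (23, 0), (23, 2), (24, 0), (24, 1), (25, 2), (26, 0), (27, 0), (27, 1), (27, 2),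 (28, 0), (28, 2), (29, 1), (30, 1), (30, 2), (31, 0), (31, 1), (32, 0), (32, 2), (33, 2), (34, 0), (34, 2), (35, 0), (35, 1), (36, 2), (37, 0), (37, 2), (38, 0), (38, 2), (39, 0), (39, 2), (40, 0), (40, 1), (41, 0), (42, 1), (43, 1), (44, 1), (46, 0), (46, 1), (46, 2), (47, 0), (47, 1), (49, 0), (50, 1), (51, 0), (53, 2), (55, 0), (55, 1), (57, 1), (59, 0), (59, 2), (60, 0), (60, 2), (61, 1), (62, 2), (63, 0), (63, 1), (65, 0), (65, 2), (66, 1), (67, 2), (68, 2), (69, 0), (70, 0), (70, 1), (72, 1), (74, 1), (76, 1), (78, 0), (79, 1), (81, 2), (83, 0), (83, 1), (104, 1), (106, 1), (112, 1)]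

def sG (k : ℕ) : G := prodw (sWl.getD k [])

def chkS : Bool :=
  (List.range 3).all fun k =>
    ltAll (sWl.getD k []) && (List.range 23).all fun i =>
      Nat.beq (evalw (sWl.getD k []) (bP i)) (bP ((sL.getD k []).getD i 0)) &&
      Nat.beq (evalw (sWl.getD k []).reverse (bP i)) (bP ((sLi.getD k []).getD i 0))

theorem chkS_ok : chkS = true := by decide +kernel

theorem sW_lt {k : ℕ} (hk : k < 3) : ∀ l ∈ sWl.getD k [], l < nl := by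
  have h := chkS_ok
  simp only [chkS, List.all_eq_true, Bool.and_eq_true, List.mem_range] at h
  exact ltAll_spec (h k hk).1

theorem Acts_sG {k : ℕ} (hk : k < 3) : Acts (sG k) (sL.getD k []) := by
  have h := chkS_ok
  simp only [chkS, List.all_eq_true, Bool.and_eq_true, List.mem_range] at h
  intro i hi
  rw [sG, phi_prodw_apply _ (sW_lt hk)]
  exact Nat.eq_of_beq_eq_true ((h k hk).2 i hi).1

theorem Acts_sG_inv {k : ℕ} (hk : k < 3) : Acts (sG k)⁻¹ (sLi.getD k []) := by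
  have h := chkS_ok
  simp only [chkS, List.all_eq_true, Bool.and_eq_true, List.mem_range] at h
  intro i hi
  rw [sG, ← prodw_reverse, phi_prodw_apply _ (by
    intro l hl; exact sW_lt hk l (List.mem_reverse.mp hl))]
  exact Nat.eq_of_beq_eq_true ((h k hk).2 i hi).2

def chkValid : Bool := Slist.all validB && sL.all validB && sLi.all validB

theorem chkValid_ok : chkValid = true := by decide +kernel

theorem Slist_valid {L : List ℕ} (hL : L ∈ Slist) : validB L = true := by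
  have h := chkValid_ok
  simp only [chkValid, Bool.and_eq_true, List.all_eq_true] at h
  exact h.1.1 L hL

theorem sL_valid {k : ℕ} (hk : k < 3) : validB (sL.getD k []) = true := by
  have h := chkValid_ok
  simp only [chkValid, Bool.and_eq_true, List.all_eq_true] at h
  apply h.1.2
  rw [List.getD_eq_getElem _ _ (show k < sL.length from hk)]
  exact List.getElem_mem _

theorem sLi_valid {k : ℕ} (hk : k < 3) : validB (sLi.getD k []) = true := by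
  have h := chkValid_ok
  simp only [chkValid, Bool.and_eq_true, List.all_eq_true] at h
  apply h.2
  rw [List.getD_eq_getElem _ _ (show k < sLi.length from hk)]
  exact List.getElem_mem _

def chkClos : Bool :=
  Slist.all fun L => (List.range 3).all fun k =>
    memL (comp L (sL.getD k [])) Slist && memL (comp L (sLi.getD k [])) Slist

theorem chkClos_ok : chkClos = true := by decide +kernel

theorem clos_sL {L : List ℕ} (hL : L ∈ Slist) {k : ℕ} (hk : k < 3) :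
    comp L (sL.getD k []) ∈ Slist ∧ comp L (sLi.getD k []) ∈ Slist := by
  have h := chkClos_ok
  simp only [chkClos, List.all_eq_true, Bool.and_eq_true, List.mem_range, memL_iff] at h
  exact h L hL k hk

/-- the Sylow 2-subgroup. -/
def T0 : Subgroup G :=
  Subgroup.closure ({g | ∃ i, i < 23 ∧ g = dG i} ∪ {g | ∃ k, k < 3 ∧ g = sG k})

theorem E_le_T0 : E ≤ T0 := Subgroup.closure_mono Set.subset_union_left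

theorem sG_mem {k : ℕ} (hk : k < 3) : sG k ∈ T0 :=
  Subgroup.subset_closure (Or.inr ⟨k, hk, rfl⟩)

theorem idL_mem : idL ∈ Slist := by
  rw [← memL_iff]; decide +kernel

theorem T0_acts {a : G} (ha : a ∈ T0) : ∃ L ∈ Slist, Acts a L := by
  induction ha using Subgroup.closure_induction_right with
  | one => exact ⟨idL, idL_mem, Acts_one⟩
  | mul_right x _ y hy ih =>
    obtain ⟨L, hL, hx⟩ := ih
    rcases hy with ⟨i, hi, rfl⟩ | ⟨k, hk, rfl⟩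
    · exact ⟨L, hL, Acts_mul_E hx (dG_mem hi)⟩
    · exact ⟨_, (clos_sL hL hk).1, Acts_mul hx (Acts_sG hk) (valid_of_validB (sL_valid hk)).1⟩
  | mul_inv_cancel x _ y hy ih =>
    obtain ⟨L, hL, hx⟩ := ih
    rcases hy with ⟨i, hi, rfl⟩ | ⟨k, hk, rfl⟩
    · exact ⟨L, hL, Acts_mul_E hx (E.inv_mem (dG_mem hi))⟩
    · exact ⟨_, (clos_sL hL hk).2,
        Acts_mul hx (Acts_sG_inv hk) (valid_of_validB (sLi_valid hk)).1⟩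

def chkTreeS : Bool :=
  leq (Slist.getD 0 []) idL && (List.range 127).all fun n =>
    Nat.ble (Stree.getD n (0, 0)).1 n && Nat.blt (Stree.getD n (0, 0)).2 3 &&
      leq (Slist.getD (n + 1) [])
        (comp (Slist.getD (Stree.getD n (0, 0)).1 []) (sL.getD (Stree.getD n (0, 0)).2 []))

theorem chkTreeS_ok : chkTreeS = true := by decide +kernel

theorem T0_real_idx : ∀ n, n < 128 → ∃ a ∈ T0, Acts a (Slist.getD n []) := by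
  have h := chkTreeS_ok
  simp only [chkTreeS, Bool.and_eq_true, List.all_eq_true, List.mem_range, leq_iff, Nat.ble_eq,
    Nat.blt_eq] at h
  intro n
  induction n using Nat.strong_induction_on with
  | _ n ih =>
    intro hn
    rcases Nat.eq_zero_or_pos n with rfl | hpos
    · rw [h.1]; exact ⟨1, T0.one_mem, Acts_one⟩
    · obtain ⟨m, rfl⟩ : ∃ m, n = m + 1 := ⟨n - 1, by omega⟩
      have hm : m < 127 := by omega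
      obtain ⟨⟨h1, h2⟩, h3⟩ := h.2 m hm
      obtain ⟨a, ha, hA⟩ := ih _ (by omega) (by omega : (Stree.getD m (0, 0)).1 < 128)
      rw [h3]
      exact ⟨a * sG _, T0.mul_mem ha (sG_mem h2),
        Acts_mul hA (Acts_sG h2) (valid_of_validB (sL_valid h2)).1⟩

theorem Slist_length : Slist.length = 128 := by decide +kernel

theorem T0_real {L : List ℕ} (hL : L ∈ Slist) : ∃ a ∈ T0, Acts a L := by
  obtain ⟨n, hn, rfl⟩ := List.getElem_of_mem hL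
  have := T0_real_idx n (by rw [← Slist_length]; exact hn)
  rwa [List.getD_eq_getElem _ _ hn] at this

def chkNodup : List (List ℕ) → Bool
  | [] => true
  | L :: t => !memL L t && chkNodup t

theorem nodup_of_chk {Ls : List (List ℕ)} (h : chkNodup Ls = true) : Ls.Nodup := by
  induction Ls with
  | nil => exact List.nodup_nil
  | cons L t ih =>
    simp only [chkNodup, Bool.and_eq_true, Bool.not_eq_true', ← Bool.not_eq_true, memL_iff] at h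
    exact List.nodup_cons.mpr ⟨h.1, ih h.2⟩

theorem Slist_nodup : Slist.Nodup := nodup_of_chk (by decide +kernel)

/-! ### counting -/

theorem card_le_of_acts [Finite G] (A : Subgroup G) (S : Finset (List ℕ))
    (h : ∀ a ∈ A, ∃ L ∈ S, Acts a L) : Nat.card A ≤ S.card * Nat.card ↥(A ⊓ E) := by
  classical
  choose! Lf hLf hAct using h
  let r : List ℕ → A := fun L => if hh : ∃ a : A, Lf a.1 = L then Classical.choose hh else 1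
  have hr : ∀ a : A, Lf (r (Lf a.1)).1 = Lf a.1 := by
    intro a
    have hh : ∃ a' : A, Lf a'.1 = Lf a.1 := ⟨a, rfl⟩
    simp only [r, dif_pos hh]
    exact Classical.choose_spec hh
  let F : A → S × ↥(A ⊓ E) := fun a =>
    (⟨Lf a.1, hLf a.1 a.2⟩, ⟨(r (Lf a.1)).1⁻¹ * a.1, Subgroup.mem_inf.mpr
      ⟨A.mul_mem (A.inv_mem (r (Lf a.1)).2) a.2, by
        apply Acts_inv_mul (hAct a.1 a.2)
        have := hAct (r (Lf a.1)).1 (r (Lf a.1)).2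
        rwa [hr a] at this⟩⟩)
  have hF : Function.Injective F := by
    intro a a' e
    simp only [F, Prod.mk.injEq, Subtype.mk.injEq] at e
    obtain ⟨e1, e2⟩ := e
    rw [e1] at e2
    exact Subtype.ext (mul_left_cancel e2)
  have := Nat.card_le_card_of_injective F hF
  rwa [Nat.card_prod, Nat.card_eq_fintype_card (α := S), Fintype.card_coe] at this

theorem card_T0 : Nat.card T0 = 2 ^ 18 := by
  classical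
  haveI := finG
  apply le_antisymm
  · have h := card_le_of_acts T0 Slist.toFinset (by
      intro a ha
      obtain ⟨L, hL, hA⟩ := T0_acts ha
      exact ⟨L, List.mem_toFinset.mpr hL, hA⟩)
    rw [List.toFinset_card_of_nodup Slist_nodup, Slist_length, inf_eq_right.mpr E_le_T0,
      card_E] at h
    exact h.trans (by norm_num)
  · have hch : ∀ L : {L // L ∈ Slist}, ∃ a ∈ T0, Acts a L.1 := fun L => T0_real L.2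
    choose rp hrp hrA using hch
    let F : {L // L ∈ Slist} × E → T0 := fun p =>
      ⟨rp p.1 * p.2.1, T0.mul_mem (hrp p.1) (E_le_T0 p.2.2)⟩
    have hF : Function.Injective F := by
      rintro ⟨L, e⟩ ⟨L', e'⟩ h
      simp only [F, Subtype.mk.injEq] at h
      have h1 := Acts_mul_E (hrA L) e.2
      have h2 := Acts_mul_E (hrA L') e'.2
      rw [h] at h1
      have hL : L.1 = L'.1 := Acts_unique h1 h2 (Slist_valid L.2) (Slist_valid L'.2)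
      have hL' : L = L' := Subtype.ext hL
      subst hL'
      have := mul_left_cancel h
      rw [Prod.mk.injEq]
      exact ⟨rfl, Subtype.ext this⟩
    have := Nat.card_le_card_of_injective F hF
    rw [Nat.card_prod, card_E] at this
    have hS : Nat.card {L // L ∈ Slist} = 128 := by
      have : Nat.card {L // L ∈ Slist} = Nat.card ↥(Slist.toFinset : Set (List ℕ)) := by
        apply Nat.card_congr
        exact Equiv.subtypeEquivRight (fun L => by simp)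
      rw [this, Nat.card_coe_set_eq, Set.ncard_coe_finset, List.toFinset_card_of_nodup Slist_nodup,
        Slist_length]
    rw [hS] at this
    exact (by norm_num : 2 ^ 18 = 128 * 2048).le.trans this

theorem fact2 : (Nat.card G).factorization 2 = 18 := by
  rw [card_G]
  have h1 : (2 : ℕ) ^ 18 ∣ 4089470473293004800 := by norm_num
  have h2 : ¬ (2 : ℕ) ^ 19 ∣ 4089470473293004800 := by norm_num
  have hp : Nat.Prime 2 := by norm_num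
  rw [hp.pow_dvd_iff_le_factorization (by norm_num)] at h1 h2
  omega

end Cfsg.Agent.Helper17.Fi23Syl
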